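import Mathlib
import Cfsg.Agent.Helper19.TCR.Model
import Cfsg.Agent.Helper11.SchHSM.MChk0

set_option autoImplicit false
set_option linter.all false
set_option maxRecDepth 1000000
set_option maxHeartbeats 0

namespace Cfsg.Agent.Helper11.SchHSM

open Cfsg.Agent.Helper19.TCS Cfsg.Agent.Helper19.TCM Cfsg.Agent.Helper19.Schur

theorem okM_all : ∀ p, p < 1 → OKM (p * 352) 352 := by
  intro p hp
  interval_cases p
  · exact okM0

theorem okM_row : ∀ i, i < 352 →
    (∀ l, l < 4 → okEdgeM 352 512 2 invMF entM i l = true) ∧ okRelsM 512 2 entM relsPM i = true := by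
  intro i hi
  have hp : i / 352 < 1 := by omega
  have h1 : i / 352 * 352 ≤ i := Nat.div_mul_le_self i 352
  have h2 : i < i / 352 * 352 + 352 := by omega
  exact okRowsM_spec relsPM (i / 352 * 352) 352 (okM_all (i / 352) hp) i h1 h2 hi

theorem modelOK : ModelOK 352 512 2 invMF entM where
  hN := by norm_num
  hmd := by norm_num
  hinv := by
    intro l hl
    interval_cases l <;> rfl
  edge := fun i l hi hl => (okM_row i hi).1 l hl

theorem relsPM_eq : relsPM = relsM.zip phisM := by decide

theorem relsM_ok : ∀ i, i < 352 → okRelsM 512 2 entM (relsM.zip phisM) i = true := by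
  intro i hi
  rw [← relsPM_eq]
  exact (okM_row i hi).2

end Cfsg.Agent.Helper11.SchHSM
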