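import Cfsg.Agent.Helper19.TCR.ModelDefs

set_option autoImplicit false
set_option linter.all false
set_option maxRecDepth 1000000
set_option maxHeartbeats 0

namespace Cfsg.Agent.Helper11.SchHSM

open Cfsg.Agent.Helper19.TCS Cfsg.Agent.Helper19.TCM

noncomputable def colM0 : Tr Nat := (.nd (.nd (.lf (nat_lit 0x180371785c0085a1605615453148501384c00c4a1204611443108400f83c0e8390e0360d0330c8300bc2e0b02a0a42809c26090230842007c1d0701a06017054130481003c0d0300a020060140400201)) (.lf (nat_lit 0x548da34556509553bd5454d295414c99a492255137484511334e54f0d447539234793052d4a39c25205484447d42d475145929d43354221b92a4e141500b84713d4f82b15cb64f1023ec9b459374d81b)) (.lf (nat_lit 0x0)) (.lf (nat_lit 0x0))) (.nd (.lf (nat_lit 0x2d0b22c4b0044ae2b4742acaa23ca8298a428ca22809f2784b2709a264982589525016248911748e2348b2288821c6921483208801fc7e1507b1e8781dc2d1d4731c8701bc6d1b06a1a0671106418c61)) (.lf (nat_lit 0x230a91e5074ecac13d5e57c6249c3f534905255a3d15d5195c56d0a4fd3a565583043b4d55738431)) (.lf (nat_lit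 0x0)) (.lf (nat_lit 0x0))) (.lf (nat_lit 0x3dcf13d8f03d47c3cc091d8f23a019360513b8ec3acea294e932ce6394e3388e037cd6378dc34cdb194d901c5f35cc93501434841340ce334cc2fcca2bcc8318c524cc3308c02f8bd2ecba2e45b2dcb5)) (.lf (nat_lit 0x31c1e2846b4d09d468bc3111d4c9314bd2e33d2b4b52c038718f52849925491224852047d0e25cfd390f946d19461174551444ced449104310043d0d02c8613509421064150440d013fcfe3f0fa2ccf8)))

end Cfsg.Agent.Helper11.SchHSM
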