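import Cfsg.Agent.Helper19.TCR.ModelDefs

set_option autoImplicit false
set_option linter.all false
set_option maxRecDepth 1000000
set_option maxHeartbeats 0

namespace Cfsg.Agent.Helper11.SchHSM

open Cfsg.Agent.Helper19.TCS Cfsg.Agent.Helper19.TCM

noncomputable def colM1 : Tr Nat := (.nd (.nd (.lf (nat_lit 0x55029bac2851027098250f8244a423088215002007c1e1381d4281c06c1a0641848017059140541404cfe04811400102d00f03864034980300b1ec0a024ed0200733c062e0052740400c020c43b80001)) (.lf (nat_lit 0x5250b4310756d484ad114090150cfb4b0f53d1243ccf23bcee3c1124d8ea554e93a0e7498e6394e438d253d90d374f9370db36903364d835cd5474d4344e2340d346d4a330cb570ca324c831d06318d2)) (.lf (nat_lit 0x0)) (.lf (nat_lit 0x0))) (.nd (.lf (nat_lit 0x15454470ba148515745013cb7134781304b3b04a12513120473f046168451133327c42105561003f2703d1843c2083a46039424380dc530d8352c83456433334321b030cc82f4a02e0b4430b02b2582a)) (.lf (nat_lit 0x55d585394c52d5051d465093c4e9384dd3f4c1354a92754d3448d225451e4694d4652d4593b4410f)) (.lf (nat_lit 0x0)) (.lf (nat_lit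 0x0))) (.lf (nat_lit 0x24487218f82148420d0e205082007f3047e1f47c23c7a1e55a1dc765787445c732b4721c4703f46f1b86d3e86b4106a1a468384671986522c63189521d46017d5f1785d4c45c16cce1652e1605747c56)) (.lf (nat_lit 0x314c4380c3414c2378c02fcbd2ed4f2e4b62f8bc4e4b1358b02bcae2b0b5484aa2a4df2a0a7504a6294a34bca22813e278b326ca445499284974f4953c49424c922ac902688e3fc8d230f72288951488)))

end Cfsg.Agent.Helper11.SchHSM
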