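import Cfsg.Agent.Helper19.TCR.ModelDefs

set_option autoImplicit false
set_option linter.all false
set_option maxRecDepth 1000000
set_option maxHeartbeats 0

namespace Cfsg.Agent.Helper11.SchHSM

open Cfsg.Agent.Helper19.TCS Cfsg.Agent.Helper19.TCM

noncomputable def colM3 : Tr Nat := (.nd (.nd (.lf (nat_lit 0xa45f0a25d89e5b964578905488c5113e4d0804b1264787444070410fc3d8ec1805e378d6158843104c128b42b0421a03c260940d8880c07c1e0281b0640805814018110140e0100b024070040000c02)) (.lf (nat_lit 0xc373ec233cc1b0541303d2b4bbf3523db40cb6f3cbd51cc750bb2ebbab213a54d53147b9b22ca31bd26e2382dec80dcd1944c3ed9c54e5d0efe35142c5ed0cfeceb34ccbff3db2b3bce939ce0c6c06c5)) (.lf (nat_lit 0x0)) (.lf (nat_lit 0x0))) (.nd (.lf (nat_lit 0x9fcb394e522be7a942aca2e4eaa64ca9ea592855284489b69d9189b91668a5c439089398e402408f0f88c8f2898ea868e6840e2811c0369f67c0d2790ce768ca740c2710bc6e8ba6b9a42c19a650aa62)) (.lf (nat_lit 0x57155d755fd6d48d67455075657b54d4f344bb2cd3f4e49925cdb37c7d5a49319d6118c4d1055f32))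 (.lf (nat_lit 0x0)) (.lf (nat_lit 0x0))) (.lf (nat_lit 0xa1ebea5485aeef4ae482b4a803c6f01f8efa8ced1eeaeb2278ba0e79d4e49cce19caa4ac4dd1bea0b6a9e9b2d81aad6b54d399ed1af6cf19292b2c61180c931c5e9dcc4970c1afe5a2f258a0cb895ab6)) (.lf (nat_lit 0xc271230f35b0aee302e3b6d3337ebacc2f22d6b42cafa2c32bcab2949eab2ab23450a8be31e2991d3d71c2891abde9fc5a9cb5e9aa6511262b7a5b0ea530cc2d0aa470723aad23502c008a3f6fb220f9)))

end Cfsg.Agent.Helper11.SchHSM
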